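import Groth.Prelude.Def_PolLaw2
import Mathlib.Algebra.Module.Projective
import Mathlib.LinearAlgebra.Matrix.SchurComplement
import Mathlib.RingTheory.Finiteness.Basic
import Mathlib.RingTheory.LocalProperties.Basic
import Mathlib.RingTheory.LocalRing.Module

universe u

open scoped TensorProduct

namespace Groth.Agent.Alg99.DetLaw

variable {A : Type u} [CommRing A] {B : Type u} [CommRing B] [Algebra A B]
  {M : Type u} [AddCommGroup M] [Module A M] [Module B M] [IsScalarTower A B M]
  {n : ℕ} (p : (Fin n → A) →ₗ[A] M) (i : M →ₗ[A] (Fin n → A))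

noncomputable def ext (R : Type u) [CommRing R] [Algebra A R] (x : R ⊗[A] B) :
    Module.End R (R ⊗[A] (Fin n → A)) :=
  1 + (i.baseChange R).comp (((PolLaw.actEnd M R x : Module.End R (R ⊗[A] M)) - 1).comp (p.baseChange R))

noncomputable def D (R : Type u) [CommRing R] [Algebra A R] (x : R ⊗[A] B) : R :=
  LinearMap.det (ext p i R x)

variable {p i}

theorem ext_mul (h : p.comp i = LinearMap.id) (R : Type u) [CommRing R] [Algebra A R] (x y : R ⊗[A] B) :
    ext p i R (x * y) = ext p i R x * ext p i R y := by
  have hpi : ∀ z, p.baseChange R (i.baseChange R z) = z := fun z => by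
    rw [← LinearMap.comp_apply, ← LinearMap.baseChange_comp, h, LinearMap.baseChange_id, LinearMap.id_apply]
  refine LinearMap.ext fun z => ?_
  simp only [ext, map_mul, Module.End.mul_apply, LinearMap.add_apply, Module.End.one_apply,
    LinearMap.comp_apply, LinearMap.sub_apply, map_add, map_sub, hpi]
  abel

theorem ext_one (R : Type u) [CommRing R] [Algebra A R] : ext p i R (1 : R ⊗[A] B) = 1 := by
  rw [ext, map_one]
  refine LinearMap.ext fun z => ?_
  simp only [LinearMap.add_apply, LinearMap.comp_apply, LinearMap.sub_apply, sub_self, map_zero, add_zero]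

theorem D_map {R R' : Type u} [CommRing R] [Algebra A R] [CommRing R'] [Algebra A R']
    (ψ : R →ₐ[A] R') (x : R ⊗[A] B) :
    D p i R' (Algebra.TensorProduct.map ψ (AlgHom.id A B) x) = ψ (D p i R x) := by
  classical
  let bM := Module.Free.chooseBasis A (Fin n → A)
  unfold D
  rw [← LinearMap.det_toMatrix (Algebra.TensorProduct.basis R' bM),
    ← LinearMap.det_toMatrix (Algebra.TensorProduct.basis R bM), AlgHom.map_det]
  congr 1
  ext a b
  simp only [AlgHom.mapMatrix_apply, Matrix.map_apply, LinearMap.toMatrix_apply,
    Algebra.TensorProduct.basis_apply]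
  rw [← PolLaw.basis_repr_rTensor (Fin n → A) ψ]
  congr 2
  simp only [ext, LinearMap.add_apply, Module.End.one_apply, LinearMap.comp_apply, LinearMap.sub_apply,
    map_add, map_sub, LinearMap.baseChange_tmul]
  have hb : ∀ (z : R ⊗[A] M), ψ.toLinearMap.rTensor (Fin n → A) (i.baseChange R z) =
      i.baseChange R' (ψ.toLinearMap.rTensor M z) := by
    intro z
    induction z using TensorProduct.induction_on with
    | zero => simp
    | tmul t m => simp
    | add z z' hz hz' => simp only [map_add, hz, hz']
  rw [hb, PolLaw.rTensor_actEnd M ψ]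
  simp

theorem D_mul (h : p.comp i = LinearMap.id) (R : Type u) [CommRing R] [Algebra A R] (x y : R ⊗[A] B) :
    D p i R (x * y) = D p i R x * D p i R y := by
  rw [D, ext_mul h, map_mul]; rfl

theorem D_one (R : Type u) [CommRing R] [Algebra A R] : D p i R (1 : R ⊗[A] B) = 1 := by
  rw [D, ext_one, map_one]

theorem D_eq (h : p.comp i = LinearMap.id) (R : Type u) [CommRing R] [Algebra A R]
    [Module.Free R (R ⊗[A] M)] [Module.Finite R (R ⊗[A] M)] (x : R ⊗[A] B) :
    D p i R x = PolLaw.detAct M R x := by
  classical
  let c := Module.Free.chooseBasis R (R ⊗[A] M)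
  let d := Algebra.TensorProduct.basis R (Module.Free.chooseBasis A (Fin n → A))
  rw [D, PolLaw.detAct, ← LinearMap.det_toMatrix d, ← LinearMap.det_toMatrix c, ext, map_add,
    LinearMap.toMatrix_one, LinearMap.toMatrix_comp d c d, Matrix.det_one_add_mul_comm,
    LinearMap.toMatrix_comp d c c, Matrix.mul_assoc, ← LinearMap.toMatrix_comp c d c,
    ← LinearMap.baseChange_comp, h, LinearMap.baseChange_id, LinearMap.toMatrix_id, Matrix.mul_one,
    show LinearMap.toMatrix c c ((PolLaw.actEnd M R x : Module.End R (R ⊗[A] M)) - 1) = LinearMap.toMatrix c c (PolLaw.actEnd M R x) - LinearMap.toMatrix c c 1 from map_sub (LinearMap.toMatrix c c).toLinearMap _ _,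
    LinearMap.toMatrix_one, add_sub_cancel]

theorem toRing_compat {S S' : Type u} [CommSemiring S] [Algebra A S] [CommSemiring S'] [Algebra A S']
    (φ : S →ₐ[A] S') (x : S ⊗[A] B) :
    Algebra.TensorProduct.map (Algebra.TensorProduct.map (AlgHom.id A A) φ) (AlgHom.id A B)
        (PolLaw.toRing A B S x) = PolLaw.toRing A B S' (φ.toLinearMap.rTensor B x) := by
  induction x using TensorProduct.induction_on with
  | zero => simp
  | tmul s b => simp [Algebra.TensorProduct.map_tmul, Algebra.TensorProduct.lid_symm_apply,
      LinearMap.rTensor_tmul]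
  | add x y hx hy => simp only [map_add, hx, hy]

noncomputable def law (p : (Fin n → A) →ₗ[A] M) (i : M →ₗ[A] (Fin n → A)) : B →ₚₗ[A] A where
  toFun' S _ _ := fun x =>
    (Algebra.TensorProduct.lid A S (D p i (A ⊗[A] S) (PolLaw.toRing A B S x))) ⊗ₜ[A] (1 : A)
  isCompat' {S} _ _ {S'} _ _ φ := by
    funext x
    simp only [Function.comp_apply, LinearMap.rTensor_tmul, AlgHom.toLinearMap_apply]
    rw [← toRing_compat φ x, D_map]
    congr 1
    generalize D p i (A ⊗[A] S) (PolLaw.toRing A B S x) = r
    induction r using TensorProduct.induction_on with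
    | zero => simp
    | tmul a s => simp [Algebra.TensorProduct.map_tmul, Algebra.TensorProduct.lid_tmul]
    | add x y hx hy => simp only [map_add, hx, hy]

theorem law_isMult (h : p.comp i = LinearMap.id) : PolLaw.IsMult (law (B := B) p i) := by
  intro S _ _
  refine ⟨?_, fun x y => ?_⟩
  · simp only [law]
    have h0 : PolLaw.toRing A B S 1 = 1 := by
      simp [Algebra.TensorProduct.one_def, Algebra.TensorProduct.map_tmul, Algebra.TensorProduct.lid_symm_apply]
    have h1 : Algebra.TensorProduct.lid A S 1 = 1 := by
      simp [Algebra.TensorProduct.one_def, Algebra.TensorProduct.lid_tmul]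
    rw [h0, D_one, h1]
    rfl
  · simp only [law]
    simp [D_mul h, Algebra.TensorProduct.tmul_mul_tmul]

theorem law_apply (S : Type u) [CommRing S] [Algebra A S] (x : S ⊗[A] B) :
    (law p i).toFun' S x = D p i S x ⊗ₜ[A] (1 : A) := by
  simp only [law]
  congr 1
  have h := D_map (p := p) (i := i) (Algebra.TensorProduct.lid A S).toAlgHom (PolLaw.toRing A B S x)
  have e : Algebra.TensorProduct.map (Algebra.TensorProduct.lid A S).toAlgHom (AlgHom.id A B)
      (PolLaw.toRing A B S x) = x := by
    clear h
    induction x using TensorProduct.induction_on with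
    | zero => simp
    | tmul s b => simp [Algebra.TensorProduct.map_tmul, Algebra.TensorProduct.lid_symm_apply]
    | add x y hx hy => simp only [map_add, hx, hy]
  rw [e] at h
  exact h.symm

theorem unique (N N' : B →ₚₗ[A] A)
    (hN : ∀ (S : Type u) [CommRing S] [IsLocalRing S] [Algebra A S] (x : S ⊗[A] B),
      N.toFun' S x = N'.toFun' S x) : N = N' := by
  refine PolynomialLaw.ext ?_
  funext S _ _ x
  let e := (Algebra.TensorProduct.lid A S).symm.toAlgHom
  have e0 : (e.toLinearMap.rTensor A (N.toFun' S x)) = e.toLinearMap.rTensor A (N'.toFun' S x) := by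
    have h1 := congrFun (N.isCompat' e) x
    have h2 := congrFun (N'.isCompat' e) x
    simp only [Function.comp_apply] at h1 h2
    rw [h1, h2]
    generalize e.toLinearMap.rTensor B x = y
    apply (TensorProduct.rid A (A ⊗[A] S)).injective
    have key : ∀ (m : Ideal (A ⊗[A] S)) [m.IsMaximal],
        algebraMap (A ⊗[A] S) (Localization.AtPrime m) (TensorProduct.rid A _ (N.toFun' (A ⊗[A] S) y)) =
        algebraMap (A ⊗[A] S) (Localization.AtPrime m) (TensorProduct.rid A _ (N'.toFun' (A ⊗[A] S) y)) := by
      intro m _
      let ψ : (A ⊗[A] S) →ₐ[A] Localization.AtPrime m := IsScalarTower.toAlgHom A _ _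
      have h3 := congrFun (N.isCompat' ψ) y
      have h4 := congrFun (N'.isCompat' ψ) y
      simp only [Function.comp_apply] at h3 h4
      have hc : ∀ z : (A ⊗[A] S) ⊗[A] A, TensorProduct.rid A _ (ψ.toLinearMap.rTensor A z) =
          ψ (TensorProduct.rid A _ z) := by
        intro z
        induction z using TensorProduct.induction_on with
        | zero => simp
        | tmul t a => simp
        | add z z' hz hz' => simp only [map_add, hz, hz']
      calc _ = TensorProduct.rid A _ (ψ.toLinearMap.rTensor A (N.toFun' (A ⊗[A] S) y)) := (hc _).symm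
        _ = TensorProduct.rid A _ (ψ.toLinearMap.rTensor A (N'.toFun' (A ⊗[A] S) y)) := by
          rw [h3, h4]; exact congrArg _ (hN (Localization.AtPrime m) _)
        _ = _ := hc _
    exact sub_eq_zero.mp (eq_zero_of_localization _ fun m hm => by
      rw [map_sub, @key m hm, sub_self])
  have hinj : Function.Injective (e.toLinearMap.rTensor A) := by
    have : e.toLinearMap.rTensor A =
        ((Algebra.TensorProduct.lid A S).symm.toLinearEquiv.rTensor A).toLinearMap := rfl
    rw [this]
    exact LinearEquiv.injective _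
  exact hinj e0

end Groth.Agent.Alg99.DetLaw
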