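import Mathlib.RingTheory.Ideal.KrullsHeightTheorem
import Mathlib.RingTheory.Nullstellensatz
import Mathlib.RingTheory.Jacobson.Ring
import Mathlib.RingTheory.Polynomial.Basic
import Mathlib.Order.RelSeries

universe u

open MvPolynomial

namespace Groth.Agent.Alg99.Hopf

variable {k : Type u} [Field k]

noncomputable def seg (k : Type u) [Field k] (a b : ℕ) :
    MvPolynomial (Fin a × Fin b) k →ₐ[k] MvPolynomial (Fin a ⊕ Fin b) k :=
  aeval fun p => X (Sum.inl p.1) * X (Sum.inr p.2)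

noncomputable def sub (k : Type u) [Field k] (a b : ℕ) (s t : ℕ) :
    MvPolynomial (Fin a ⊕ Fin b) k →ₐ[k] MvPolynomial (Fin a ⊕ Fin b) k :=
  aeval (Sum.elim (fun i => if (i : ℕ) < s then X (Sum.inl i) else 0)
    (fun j => if (j : ℕ) < t then X (Sum.inr j) else 0))

noncomputable def P (k : Type u) [Field k] (a b s t : ℕ) : Ideal (MvPolynomial (Fin a × Fin b) k) :=
  RingHom.ker ((sub k a b s t).comp (seg k a b)).toRingHom

theorem P_isPrime (a b s t : ℕ) : (P k a b s t).IsPrime := RingHom.ker_isPrime _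

theorem comp_apply_X (a b s t : ℕ) (i : Fin a) (j : Fin b) :
    ((sub k a b s t).comp (seg k a b)) (X (i, j)) =
      if (i : ℕ) < s ∧ (j : ℕ) < t then X (Sum.inl i) * X (Sum.inr j) else 0 := by
  simp only [AlgHom.comp_apply, seg, sub, aeval_X, map_mul, Sum.elim_inl, Sum.elim_inr]
  split_ifs <;> simp_all

theorem P_anti (a b : ℕ) {s t s' t' : ℕ} (hs : s ≤ s') (ht : t ≤ t') :
    P k a b s' t' ≤ P k a b s t := by
  have h : (sub k a b s t).comp (seg k a b) = (sub k a b s t).comp ((sub k a b s' t').comp (seg k a b)) := by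
    refine MvPolynomial.algHom_ext fun p => ?_
    obtain ⟨i, j⟩ := p
    rw [AlgHom.comp_apply (sub k a b s t) ((sub k a b s' t').comp (seg k a b)), comp_apply_X, comp_apply_X]
    by_cases hc : (i : ℕ) < s ∧ (j : ℕ) < t
    · rw [if_pos hc, if_pos ⟨lt_of_lt_of_le hc.1 hs, lt_of_lt_of_le hc.2 ht⟩]
      simp [sub, hc.1, hc.2]
    · rw [if_neg hc]
      split_ifs
      · simp only [sub, map_mul, aeval_X, Sum.elim_inl, Sum.elim_inr]
        split_ifs <;> simp_all
      · rw [map_zero]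
  intro f hf
  rw [P, RingHom.mem_ker] at hf ⊢
  change ((sub k a b s' t').comp (seg k a b)) f = 0 at hf
  change ((sub k a b s t).comp (seg k a b)) f = 0
  rw [h, AlgHom.comp_apply, hf, map_zero]

theorem X_mem_P_iff (a b s t : ℕ) (i : Fin a) (j : Fin b) :
    X (i, j) ∈ P k a b s t ↔ ¬ ((i : ℕ) < s ∧ (j : ℕ) < t) := by
  rw [P, RingHom.mem_ker]
  change ((sub k a b s t).comp (seg k a b)) (X (i, j)) = 0 ↔ _
  rw [comp_apply_X]
  split_ifs with h
  · simp [h, mul_eq_zero]
  · simp [h]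

theorem seriesLength (a b : ℕ) :
    ((a + 1 + (b + 1) - 1 : ℕ) : ℕ∞) ≤
      ((P k (a+1) (b+1) 1 0).map (Ideal.Quotient.mk (RingHom.ker (seg k (a+1) (b+1)).toRingHom))).height := by
  set K := RingHom.ker (seg k (a+1) (b+1)).toRingHom
  have hK : ∀ s t, K ≤ P k (a+1) (b+1) s t := by
    intro s t f hf
    rw [RingHom.mem_ker] at hf
    change seg k (a+1) (b+1) f = 0 at hf
    rw [P, RingHom.mem_ker]
    change ((sub k _ _ s t).comp (seg k _ _)) f = 0
    rw [AlgHom.comp_apply, hf, map_zero]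
  let q : ℕ → ℕ → Ideal (MvPolynomial (Fin (a+1) × Fin (b+1)) k ⧸ K) := fun s t =>
    (P k (a+1) (b+1) s t).map (Ideal.Quotient.mk K)
  have hprime : ∀ s t, (q s t).IsPrime := fun s t =>
    have := P_isPrime (k := k) (a+1) (b+1) s t
    Ideal.map_isPrime_of_surjective Ideal.Quotient.mk_surjective (by rw [Ideal.mk_ker]; exact hK s t)
  have hmem : ∀ s t i j, Ideal.Quotient.mk K (X (i, j)) ∈ q s t ↔ ¬ ((i : ℕ) < s ∧ (j : ℕ) < t) := by
    intro s t i j
    rw [← X_mem_P_iff (k := k), ← Ideal.mem_comap, Ideal.comap_map_of_surjective _ Ideal.Quotient.mk_surjective,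
      ← RingHom.ker_eq_comap_bot, Ideal.mk_ker, sup_eq_left.mpr (hK s t)]
  have hlt : ∀ s t s' t', s ≤ s' → t ≤ t' → ∀ i j, ((i : Fin (a+1)) : ℕ) < s' → ((j : Fin (b+1)) : ℕ) < t' →
      ¬ ((i : ℕ) < s ∧ (j : ℕ) < t) → q s' t' < q s t := by
    intro s t s' t' hs ht i j hi hj hn
    refine lt_of_le_of_ne (Ideal.map_mono (P_anti _ _ hs ht)) fun he => ?_
    have h := (hmem s t i j).mpr hn
    rw [← he, hmem] at h
    exact h ⟨hi, hj⟩
  let st : ℕ → ℕ × ℕ := fun l => if l ≤ a then (a + 1 - l, b + 1) else (1, a + b + 1 - l)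
  let F : Fin (a + b + 1 + 1) → PrimeSpectrum (MvPolynomial (Fin (a+1) × Fin (b+1)) k ⧸ K) :=
    fun l => ⟨q (st l).1 (st l).2, hprime _ _⟩
  let c : LTSeries (PrimeSpectrum (MvPolynomial (Fin (a+1) × Fin (b+1)) k ⧸ K)) :=
    { length := a + b + 1
      toFun := F
      step := fun l => by
        change q (st (l : ℕ)).1 (st (l : ℕ)).2 < q (st ((l : ℕ) + 1)).1 (st ((l : ℕ) + 1)).2
        have hl := l.isLt
        rcases lt_or_ge (l : ℕ) a with h | h
        · simp only [st, if_pos h.le, if_pos (Nat.succ_le_of_lt h)]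
          exact hlt _ _ _ _ (by omega) le_rfl ⟨a - l, by omega⟩ ⟨0, by omega⟩ (by dsimp; omega) (by dsimp; omega)
            (by dsimp; omega)
        · have h' : ¬ ((l : ℕ) + 1 ≤ a) := by omega
          by_cases he : (l : ℕ) = a
          · simp only [st, he, le_refl, if_true, if_neg (Nat.not_succ_le_self a)]
            exact hlt _ _ _ _ (by omega) (by omega) ⟨0, by omega⟩ ⟨b, by omega⟩ (by dsimp; omega) (by dsimp; omega)
              (by dsimp; omega)
          · simp only [st, if_neg (show ¬ (l : ℕ) ≤ a by omega), if_neg h']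
            exact hlt _ _ _ _ le_rfl (by omega) ⟨0, by omega⟩ ⟨a + b + 1 - ((l : ℕ) + 1), by omega⟩
              (by dsimp; omega) (by dsimp; omega) (by dsimp; omega) }
  have hlast : c.last.asIdeal = q 1 0 := by
    change q (st (a + b + 1)).1 (st (a + b + 1)).2 = q 1 0
    simp [st]
  have hcl : c.last = (⟨q 1 0, hprime 1 0⟩ : PrimeSpectrum _) := PrimeSpectrum.ext hlast
  haveI := hprime 1 0
  rw [show ((P k (a+1) (b+1) 1 0).map (Ideal.Quotient.mk K)) = q 1 0 from rfl,
    show (q 1 0).height = Order.height (⟨q 1 0, hprime 1 0⟩ : PrimeSpectrum _) from PrimeSpectrum.height_eq_orderHeight ⟨q 1 0, hprime 1 0⟩]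
  refine le_trans ?_ (Order.length_le_height (p := c) (le_of_eq hcl))
  norm_cast
  change a + 1 + (b + 1) - 1 ≤ a + b + 1
  omega

theorem exists_rankOne [IsAlgClosed k] {a b r : ℕ} (hr : r + 1 < a + 1 + (b + 1))
    (L : Fin r → Fin (a+1) × Fin (b+1) → k) :
    ∃ (u : Fin (a+1) → k) (v : Fin (b+1) → k), u ≠ 0 ∧ v ≠ 0 ∧
      ∀ l, ∑ p, L l p * (u p.1 * v p.2) = 0 := by
  classical
  by_contra hcon
  push Not at hcon
  set K := RingHom.ker (seg k (a+1) (b+1)).toRingHom with hKdef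
  set π := Ideal.Quotient.mk K
  let g : Fin r → MvPolynomial (Fin (a+1) × Fin (b+1)) k := fun l => ∑ p, C (L l p) * X p
  let J : Ideal (MvPolynomial (Fin (a+1) × Fin (b+1)) k) := Ideal.span (Set.range g) ⊔ K
  have hP : ∀ f, f ∈ P k (a+1) (b+1) 1 0 ↔ eval (0 : Fin (a+1) × Fin (b+1) → k) f = 0 := by
    intro f
    have h : (sub k (a+1) (b+1) 1 0).comp (seg k (a+1) (b+1)) =
        (Algebra.ofId k (MvPolynomial (Fin (a+1) ⊕ Fin (b+1)) k)).comp (aeval (0 : Fin (a+1) × Fin (b+1) → k)) := by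
      refine MvPolynomial.algHom_ext fun p => ?_
      obtain ⟨i, j⟩ := p
      rw [comp_apply_X, if_neg (by omega), AlgHom.comp_apply, aeval_X, Pi.zero_apply, map_zero]
    rw [P, RingHom.mem_ker]
    change ((sub k _ _ 1 0).comp (seg k _ _)) f = 0 ↔ _
    rw [h, AlgHom.comp_apply, aeval_eq_eval]
    exact (map_eq_zero_iff _ (C_injective _ _))
  have hz : ∀ z ∈ zeroLocus k J, z = 0 := by
    intro z hz
    by_contra hne
    obtain ⟨⟨i₀, j₀⟩, h0⟩ : ∃ p, z p ≠ 0 := Function.ne_iff.mp hne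
    have hrel : ∀ i j, z (i, j) * z (i₀, j₀) = z (i, j₀) * z (i₀, j) := by
      intro i j
      have hm : X (i, j) * X (i₀, j₀) - X (i, j₀) * X (i₀, j) ∈ J := by
        refine Ideal.mem_sup_right ?_
        rw [hKdef, RingHom.mem_ker]
        change seg k _ _ _ = 0
        simp only [seg, map_sub, map_mul, aeval_X]
        ring
      have := (mem_zeroLocus_iff.mp hz) _ hm
      simp only [map_sub, map_mul, aeval_X, sub_eq_zero] at this
      exact this
    obtain ⟨l, hl⟩ := hcon (fun i => z (i, j₀)) (fun j => z (i₀, j))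
      (fun h => h0 (congrFun h i₀)) (fun h => h0 (congrFun h j₀))
    apply hl
    have hg : g l ∈ J := Ideal.mem_sup_left (Ideal.subset_span ⟨l, rfl⟩)
    have := (mem_zeroLocus_iff.mp hz) _ hg
    simp only [g, map_sum, map_mul, aeval_C, aeval_X, Algebra.algebraMap_self, RingHom.id_apply] at this
    calc ∑ p, L l p * (z (p.1, j₀) * z (i₀, p.2)) = ∑ p, z (i₀, j₀) * (L l p * z p) := by
          refine Finset.sum_congr rfl fun p _ => ?_
          rw [← hrel p.1 p.2]; ring
      _ = 0 := by rw [← Finset.mul_sum, this, mul_zero]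
  have hrad : P k (a+1) (b+1) 1 0 ≤ J.radical := by
    intro f hf
    rw [← MvPolynomial.vanishingIdeal_zeroLocus_eq_radical (K := k)]
    rw [mem_vanishingIdeal_iff]
    intro z hz'
    rw [hz z hz', aeval_eq_eval]
    exact (hP f).mp hf
  have hJP : J ≤ P k (a+1) (b+1) 1 0 := by
    refine sup_le (Ideal.span_le.mpr ?_) ?_
    · rintro _ ⟨l, rfl⟩
      exact (hP _).mpr (by simp [g])
    · intro f hf
      rw [hKdef, RingHom.mem_ker] at hf
      change seg k _ _ f = 0 at hf
      rw [P, RingHom.mem_ker]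
      change ((sub k _ _ 1 0).comp (seg k _ _)) f = 0
      rw [AlgHom.comp_apply, hf, map_zero]
  have hKP : K ≤ P k (a+1) (b+1) 1 0 := le_trans le_sup_right hJP
  have hJmap : J.map π = Ideal.span (Set.range (π ∘ g)) := by
    rw [Ideal.map_sup, Ideal.map_quotient_self, sup_bot_eq, Ideal.map_span, Set.range_comp]
  haveI := P_isPrime (k := k) (a+1) (b+1) 1 0
  haveI hPm : ((P k (a+1) (b+1) 1 0).map π).IsPrime :=
    Ideal.map_isPrime_of_surjective Ideal.Quotient.mk_surjective (by rw [Ideal.mk_ker]; exact hKP)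
  have hmin : (P k (a+1) (b+1) 1 0).map π ∈ (Ideal.span (Set.range (π ∘ g))).minimalPrimes := by
    refine ⟨⟨hPm, hJmap ▸ Ideal.map_mono hJP⟩, fun Q hQ _ => ?_⟩
    rw [Ideal.map_le_iff_le_comap]
    haveI := hQ.1
    refine hrad.trans ((Ideal.IsPrime.radical_le_iff inferInstance).mpr ?_)
    rw [← Ideal.map_le_iff_le_comap, hJmap]
    exact hQ.2
  have h1 := seriesLength (k := k) a b
  have h2 := Ideal.height_le_card_of_mem_minimalPrimes_span (Set.finite_range _) hmin
  have h3 : (Set.range (π ∘ g)).ncard ≤ r := by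
    rw [← Set.image_univ]
    exact le_trans (Set.ncard_image_le Set.finite_univ) (by simp)
  have h4 := (h1.trans h2).trans (Nat.cast_le.mpr h3)
  norm_cast at h4
  omega

end Groth.Agent.Alg99.Hopf
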